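import Groth.Agent.AmpleVan.NakayamaFibre
import Groth.Agent.SheafHomX.Main
import Groth.Agent.Algz7.Completion
import Groth.Agent.InvX.GenLocus
import Groth.Agent.InvX.Tensor
import Groth.Agent.DivX.MeroMod
import Groth.Agent.Lib.CurveDeg
import Groth.Agent.PicClLib.Basic
import Groth.Agent.S0058

/-!
# Invertible modules trivial on every thickening of the closed fibre
-/

set_option autoImplicit false
set_option backward.isDefEq.respectTransparency false
set_option backward.isDefEq.respectTransparency.types false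
set_option linter.style.haveILetI false

universe u

open CategoryTheory CategoryTheory.Limits AlgebraicGeometry Opposite

namespace Groth.Agent.TrivThick

variable {X : Scheme.{u}}

/-- A surjection from the structure sheaf onto an invertible module is an isomorphism. -/
theorem isIso_of_epi [IsLocallyNoetherian X] {L : X.Modules} (hL : PicF.IsInvertible L)
    (s : Coh.structureModule X ⟶ L) [Epi s] : IsIso s := by
  refine DivX.isIso_of_frames s fun x => ?_
  obtain ⟨U, hU, e, he⟩ := InvX.exists_frame hL x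
  obtain ⟨W, hW, hxW, hWU⟩ := exists_isAffineOpen_mem_and_subset (U := U) (x := x) hU
  refine ⟨W, hxW, (1 : Γ(X, W)), InvX.isFrame_one W, ?_⟩
  have hf := he.res hWU
  obtain ⟨g, hg⟩ := hf.exists_coord le_rfl (s.app W (1 : Γ(X, W)))
  obtain ⟨r, hr⟩ := QCoh.app_surjective_of_epi (CurveDeg.isCoh_of_isInvertible
    (InvX.isInvertible_structureModule (X := X))).1 (CurveDeg.isCoh_of_isInvertible hL).1 s hW
    (AModX.res L le_rfl (AModX.res L hWU e))
  have hr' : (show Γ(X, W) from r) • s.app W (1 : Γ(X, W)) = AModX.res L le_rfl (AModX.res L hWU e) := by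
    rw [← Scheme.Modules.Hom.app_smul]
    refine Eq.trans ?_ hr
    exact congrArg (s.app W) (mul_one (show Γ(X, W) from r))
  have hu : IsUnit g := by
    refine isUnit_iff_exists_inv'.2 ⟨(show Γ(X, W) from r), hf.coord_unique le_rfl ?_⟩
    rw [mul_smul, ← hg, hr', one_smul]
  rw [hg]
  exact InvX.IsFrame.isUnit_smul (hf.res le_rfl) hu

variable {A : Type u} [CommRing A] [IsLocalRing A] [IsNoetherianRing A]
  [X.Over (Spec (CommRingCat.of A))] [IsProper (X ↘ Spec (CommRingCat.of A))]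

local notation "𝔪" => IsLocalRing.maximalIdeal A

/-- An invertible module which is trivial on every infinitesimal neighbourhood of the closed fibre of
a proper scheme over a Noetherian local ring is trivial. -/
theorem nonempty_iso {L : X.Modules} (hL : PicF.IsInvertible L)
    (h : ∀ n : ℕ, ∃ (Z : Scheme.{u}) (i : Z ⟶ X) (q : Z ⟶ Spec (CommRingCat.of (A ⧸ 𝔪 ^ (n + 1)))),
      IsPullback i q (X ↘ Spec (CommRingCat.of A))
        (Spec.map (CommRingCat.ofHom (Ideal.Quotient.mk (𝔪 ^ (n + 1))))) ∧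
      Nonempty ((Scheme.Modules.pullback i).obj L ≅ Coh.structureModule Z)) :
    Nonempty (L ≅ Coh.structureModule X) := by
  haveI : IsLocallyNoetherian X := LocallyOfFiniteType.isLocallyNoetherian (X ↘ Spec (CommRingCat.of A))
  let O := Coh.structureModule X
  have hLq : Coh.IsQCoh L := (CurveDeg.isCoh_of_isInvertible hL).1
  have hOq : Coh.IsQCoh O := (CurveDeg.isCoh_of_isInvertible InvX.isInvertible_structureModule).1
  obtain ⟨c, hc⟩ := Groth.Agent.S0058.result A 𝔪 X L (CurveDeg.isCoh_of_isInvertible hL) 0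
  -- a generator modulo a high power
  obtain ⟨Z, i, q, sq, ⟨t⟩⟩ := h c
  haveI : IsClosedImmersion i :=
    MorphismProperty.of_isPullback sq.flip (IsClosedImmersion.spec_of_surjective _ Ideal.Quotient.mk_surjective)
  obtain ⟨hL0, hLiso⟩ := AmpleVan.unit_desc_iso sq hLq
  obtain ⟨hO0, hOiso⟩ := AmpleVan.unit_desc_iso sq hOq
  obtain ⟨tO⟩ := PicClLib.nonempty_pullback_structureModule i
  haveI := hLiso
  haveI := hOiso
  let w : cokernel (Formal.smulFamily (𝔪 ^ (c + 1)) O) ≅ cokernel (Formal.smulFamily (𝔪 ^ (c + 1)) L) :=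
    asIso (cokernel.desc _ _ hO0) ≪≫ (Scheme.Modules.pushforward i).mapIso (tO ≪≫ t.symm) ≪≫
      (asIso (cokernel.desc _ _ hL0)).symm
  let z : O ⟶ Formal.modPow 𝔪 (c + 1) L := cokernel.π (Formal.smulFamily (𝔪 ^ (c + 1)) O) ≫ w.hom
  haveI : Epi z := epi_comp _ _
  let T : Formal.modPow 𝔪 (c + 1) L ⟶ Formal.modPow 𝔪 1 L :=
    (Formal.completion 𝔪 L).map (homOfLE (Nat.zero_le c)).op
  obtain ⟨x, hx⟩ : SheafHomX.cls (z ≫ T) ∈ Set.range (Formal.toHHmodPow 𝔪 L 0 0) := by
    rw [← hc 0 c (Nat.zero_le c) (by simp)]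
    exact ⟨SheafHomX.cls z, SheafHomX.map_cls z T⟩
  obtain ⟨s, rfl⟩ := SheafHomX.cls_surjective x
  have hs : s ≫ Formal.modPowπ 𝔪 1 L = z ≫ T :=
    SheafHomX.cls_injective ((SheafHomX.map_cls s _).symm.trans hx)
  have hT : Formal.modPowπ 𝔪 (c + 1) L ≫ T = Formal.modPowπ 𝔪 1 L :=
    FFun.Gen.completion_map_eq 𝔪 L (Nat.zero_le c)
  haveI : Epi (Formal.modPowπ 𝔪 1 L) := by unfold Formal.modPowπ; infer_instance
  haveI : Epi (Formal.modPowπ 𝔪 (c + 1) L ≫ T) := by rw [hT]; infer_instance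
  haveI : Epi T := epi_of_epi (Formal.modPowπ 𝔪 (c + 1) L) T
  haveI : Epi (s ≫ Formal.modPowπ 𝔪 1 L) := by rw [hs]; exact epi_comp _ _
  -- the closed fibre
  obtain ⟨q0, sq0⟩ : ∃ q0 : pullback (X ↘ Spec (CommRingCat.of A))
      (Spec.map (CommRingCat.ofHom (Ideal.Quotient.mk 𝔪))) ⟶ Spec (CommRingCat.of (A ⧸ 𝔪)),
      IsPullback (pullback.fst (X ↘ Spec (CommRingCat.of A))
        (Spec.map (CommRingCat.ofHom (Ideal.Quotient.mk 𝔪)))) q0 (X ↘ Spec (CommRingCat.of A))
        (Spec.map (CommRingCat.ofHom (Ideal.Quotient.mk 𝔪))) := ⟨_, IsPullback.of_hasPullback _ _⟩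
  let i0 := pullback.fst (X ↘ Spec (CommRingCat.of A))
    (Spec.map (CommRingCat.ofHom (Ideal.Quotient.mk 𝔪)))
  haveI : IsClosedImmersion i0 :=
    MorphismProperty.of_isPullback sq0.flip (IsClosedImmersion.spec_of_surjective _ Ideal.Quotient.mk_surjective)
  obtain ⟨hη0, hηiso⟩ := AmpleVan.unit_desc_iso sq0 hLq
  haveI : Epi ((Scheme.Modules.pullback i0).map s) := by
    refine Preadditive.epi_of_cancel_zero _ fun {P} g hg => ?_
    let adj := Scheme.Modules.pullbackPushforwardAdjunction i0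
    have e1 : (adj.homEquiv L P) g = cokernel.π _ ≫ cokernel.desc _ _ hη0 ≫
        (Scheme.Modules.pushforward i0).map g := by
      rw [cokernel.π_desc_assoc, Adjunction.homEquiv_unit]
    have e2 : s ≫ (adj.homEquiv L P) g = 0 := by
      rw [← Adjunction.homEquiv_naturality_left, hg, Adjunction.homEquiv_unit, Functor.map_zero, comp_zero]
    obtain ⟨k, hk⟩ : ∃ k, (adj.homEquiv L P) g = Formal.modPowπ 𝔪 1 L ≫ k := by
      obtain ⟨k, hk⟩ := (Algz7.isQuot_modPowπ 𝔪 1 L).desc ((adj.homEquiv L P) g) (by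
        rw [pow_one, e1, ← Category.assoc, cokernel.condition, zero_comp])
      exact ⟨k, hk.symm⟩
    have hk0 : k = 0 := by
      rw [← cancel_epi (s ≫ Formal.modPowπ 𝔪 1 L), Category.assoc, ← hk, e2, comp_zero]
    apply (adj.homEquiv L P).injective
    rw [hk, hk0, comp_zero, Adjunction.homEquiv_unit, Functor.map_zero, comp_zero]
  haveI := AmpleVan.epi_of_fibre sq0 hOq (CurveDeg.isCoh_of_isInvertible hL) s
  haveI := isIso_of_epi hL s
  exact ⟨(asIso s).symm⟩

end Groth.Agent.TrivThick
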